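import Cfsg.Agent.Lib.Helper76.PSQ.Main
import Cfsg.Agent.Lib.Helper76.FS.Weyl
import Cfsg.Agent.Lib.Helper76.FS.P2
import Cfsg.Agent.Lib.Helper34.Radical
import Cfsg.Agent.Lib.Helper76.PSQ.Top
import Cfsg.Agent.Lib.Helper72.PSQW2

/-!
# The quotient lemma for `p`-stable groups, for all odd primes
-/

set_option autoImplicit false

namespace Cfsg.Agent.Lib.Helper76.FS

open Subgroup Cfsg Cfsg.Agent.Lib.Helper9 Cfsg.Agent.Lib.Helper34
open Cfsg.Agent.Lib.Helper65.PSQA Cfsg.Agent.Lib.Helper65.PSQQC Cfsg.Agent.Lib.Helper72 Cfsg.Agent.Lib.Helper76.PSQ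
open Cfsg.Agent.Lib.Helper65.PSQBS

universe u

theorem fix_of_pow_fix {A : Type*} [Group A] (w : MulAut A) (v : A) {m n : ℕ} (hmn : Nat.Coprime m n)
    (h1 : (w ^ m) v = v) (h2 : (w ^ n) v = v) : w v = v := by
  let S : Subgroup (MulAut A) :=
    { carrier := {f | f v = v}
      one_mem' := rfl
      mul_mem' := fun {a b} ha hb => by
        show a (b v) = v
        rw [show b v = v from hb]
        exact ha
      inv_mem' := fun {a} ha => by
        show a⁻¹ v = v
        have : a v = v := ha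
        calc a⁻¹ v = a⁻¹ (a v) := by rw [this]
          _ = v := by simp }
  have hm : w ^ m ∈ S := h1
  have hn : w ^ n ∈ S := h2
  have hb := Nat.gcd_eq_gcd_ab m n
  rw [Nat.Coprime.gcd_eq_one hmn] at hb
  have : w = (w ^ m) ^ (Nat.gcdA m n) * (w ^ n) ^ (Nat.gcdB m n) := by
    rw [← zpow_natCast, ← zpow_natCast, ← zpow_mul, ← zpow_mul, ← zpow_add, ← hb]
    simp
  have h3 : w ∈ S := by
    rw [this]
    exact S.mul_mem (S.zpow_mem hm _) (S.zpow_mem hn _)
  exact h3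

theorem coreX' {X : Type u} [Group X] [Finite X] {p : ℕ} [hpf : Fact p.Prime] (hp2 : p ≠ 2)
    (hst : NPS p X) (Q R : Subgroup X) [Q.Normal] (hQ : IsPGroup p Q)
    (hR : ∀ k : X, ¬ p ∣ orderOf k → ∀ r ∈ R, k * r = r * k)
    (g y : X) (htop : Q ⊔ closure {g, y} = ⊤) (hg : QuadMod Q R g) (hy : QuadMod Q R y) :
    ∀ k : X, ¬ p ∣ orderOf k → ∀ q ∈ Q, k * q = q * k := by
  by_contra hcon
  push Not at hcon
  obtain ⟨k, hk, q, hq, hkq⟩ := hcon
  obtain ⟨T, E, hTn, hEn, hET, hTQ, hKE, hEmax, hTE, hmin, hQT, ⟨k0, hk0, u0, hu0, hku0⟩⟩ :=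
    exists_min_section Q hQ ⟨k, hk, q, hq, hkq⟩
  set π := QuotientGroup.mk' E with hπ
  have hπs : Function.Surjective π := QuotientGroup.mk'_surjective E
  have hπ1 : ∀ x : X, π x = 1 ↔ x ∈ E := fun x => QuotientGroup.eq_one_iff x
  have hπeq : ∀ a b : X, a * b⁻¹ ∈ E → π a = π b := by
    intro a b h
    have := (hπ1 _).2 h
    rw [map_mul, map_inv, mul_inv_eq_one] at this
    exact this
  have hπeq' : ∀ a b : X, π a = π b → a * b⁻¹ ∈ E := by
    intro a b h
    rw [← hπ1, map_mul, map_inv, h, mul_inv_cancel]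
  have hTp : IsPGroup p T := hQ.to_le hTQ
  set V := T.map π with hV
  have hVn : V.Normal := hTn.map π hπs
  have hVp : IsPGroup p V := hTp.map π
  have hVne : V ≠ ⊥ := by
    intro h
    apply hku0
    have h1 : k0 * u0 * k0⁻¹ * u0⁻¹ ∈ T := T.mul_mem (hTn.conj_mem u0 hu0 k0) (T.inv_mem hu0)
    have h2 : π (k0 * u0 * k0⁻¹ * u0⁻¹) ∈ V := ⟨_, h1, rfl⟩
    rw [h, mem_bot] at h2
    exact (hπ1 _).1 h2
  have hminV : ∀ V' : Subgroup (X ⧸ E), V'.Normal → V' ≠ ⊥ → V' ≤ V → V' = V := by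
    intro V' hV'n hV'ne hV'V
    have hNn : (V'.comap π ⊓ T).Normal := by
      have := hV'n.comap π
      infer_instance
    rcases hmin (V'.comap π ⊓ T) hNn inf_le_right with h | h
    · apply le_antisymm hV'V
      rintro _ ⟨u, hu, rfl⟩
      have : u ∈ V'.comap π ⊓ T := by rw [h]; exact hu
      exact (mem_inf.1 this).1
    · exfalso
      apply hV'ne
      rw [eq_bot_iff]
      intro v hv
      obtain ⟨u, hu, rfl⟩ := hV'V hv
      rw [mem_bot, hπ1]
      exact h (mem_inf.2 ⟨hv, hu⟩)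
  have hVnt : Nontrivial ↥V := (Subgroup.nontrivial_iff_ne_bot V).mpr hVne
  obtain ⟨hirr, hab, hexp⟩ := minimal_normal_facts V hVp hVne hminV
  let σ : X →* MulAut ↥V := (MulAut.conjNormal : (X ⧸ E) →* MulAut ↥V).comp π
  have hσ : ∀ (x : X) (v : ↥V), ((σ x v : ↥V) : X ⧸ E) = π x * v * (π x)⁻¹ := fun x v => rfl
  have hmemV : ∀ u : X, u ∈ T → π u ∈ V := fun u hu => ⟨u, hu, rfl⟩
  have hσu : ∀ (x u : X) (hu : u ∈ T), σ x ⟨π u, hmemV u hu⟩ = ⟨π (x * u * x⁻¹), hmemV _ (hTn.conj_mem u hu x)⟩ := by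
    intro x u hu
    apply Subtype.ext
    rw [hσ]
    simp
  -- equality of the actions
  have hσext : ∀ a b : X, (∀ u ∈ T, (a * u * a⁻¹) * (b * u * b⁻¹)⁻¹ ∈ E) → σ a = σ b := by
    intro a b h
    ext ⟨_, u, hu, rfl⟩
    rw [hσu a u hu, hσu b u hu]
    exact hπeq _ _ (h u hu)
  have hσQ : ∀ q ∈ Q, σ q = 1 := by
    intro q hq
    rw [← map_one σ]
    apply hσext
    intro u hu
    simpa using hQT q hq u hu
  set L := closure {σ g, σ y} with hL
  have hσL : ∀ x : X, σ x ∈ L := by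
    intro x
    have h1 : σ x ∈ (Q ⊔ closure {g, y}).map σ := ⟨x, htop ▸ mem_top x, rfl⟩
    have h2 : Q.map σ = ⊥ := by
      rw [eq_bot_iff]
      rintro _ ⟨q, hq, rfl⟩
      exact hσQ q hq
    rwa [Subgroup.map_sup, h2, bot_sup_eq, MonoidHom.map_closure, Set.image_pair] at h1
  have hLσ : ∀ l ∈ L, ∃ x : X, σ x = l := by
    intro l hl
    have h1 : L ≤ σ.range := by
      rw [hL, closure_le]
      rintro z (rfl | rfl)
      · exact ⟨g, rfl⟩
      · exact ⟨y, rfl⟩
    exact h1 hl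
  have hirrσ : ∀ B : Subgroup ↥V, (∀ x : X, ∀ b ∈ B, σ x b ∈ B) → B = ⊥ ∨ B = ⊤ := by
    intro B hB
    apply hirr B
    intro x b hb
    obtain ⟨x, rfl⟩ := hπs x
    exact hB x b hb
  have hirrL : ∀ B : Subgroup ↥V, (∀ l ∈ L, ∀ b ∈ B, l b ∈ B) → B = ⊥ ∨ B = ⊤ :=
    fun B hB => hirrσ B (fun x b hb => hB _ (hσL x) b hb)
  have hquad : ∀ z : X, QuadMod Q R z → ∀ a : ↥V, σ z (σ z a * a⁻¹) = σ z a * a⁻¹ := by
    rintro z hz ⟨_, u, hu, rfl⟩
    have hw := hz u (hTQ hu)
    have hd : z * u * z⁻¹ * u⁻¹ ∈ T := T.mul_mem (hTn.conj_mem u hu z) (T.inv_mem hu)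
    have hwT : z * (z * u * z⁻¹ * u⁻¹) * z⁻¹ * (z * u * z⁻¹ * u⁻¹)⁻¹ ∈ T :=
      T.mul_mem (hTn.conj_mem _ hd z) (T.inv_mem hd)
    have hwE := hEmax _ hwT (fun k hk => hR k hk _ hw)
    have h1 := hπeq _ _ hwE
    apply Subtype.ext
    rw [hσ]
    have h2 : ((σ z ⟨π u, hmemV u hu⟩ * (⟨π u, hmemV u hu⟩ : ↥V)⁻¹ : ↥V) : X ⧸ E) = π (z * u * z⁻¹ * u⁻¹) := by
      rw [Subgroup.coe_mul, hσ]
      simp
    rw [h2, ← map_inv, ← map_mul, ← map_mul]
    exact h1
  have hne1 : σ g ≠ 1 ∨ σ y ≠ 1 := by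
    by_contra hcon
    push Not at hcon
    have h1 : L = ⊥ := by
      rw [hL, hcon.1, hcon.2, closure_eq_bot_iff]
      simp
    have h2 : σ k0 = 1 := by
      have := hσL k0
      rwa [h1, mem_bot] at this
    have h3 := hσu k0 u0 hu0
    rw [h2] at h3
    have h4 : π u0 = π (k0 * u0 * k0⁻¹) := congrArg Subtype.val h3
    exact hku0 (hπeq' _ _ h4.symm)
  let _ : CommGroup ↥V := { (inferInstance : Group ↥V) with mul_comm := hab }
  have hσeq : ∀ a b : X, σ a = σ b → ∀ u ∈ T, (a * u * a⁻¹) * (b * u * b⁻¹)⁻¹ ∈ E := by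
    intro a b h u hu
    have h1 := hσu a u hu
    rw [h, hσu b u hu] at h1
    exact hπeq' _ _ (congrArg Subtype.val h1).symm
  have hp'triv : ∀ d : X, ¬ p ∣ orderOf d → (∀ u ∈ T, d * u * d⁻¹ * u⁻¹ ∈ E) → ∀ u ∈ T, d * u * d⁻¹ = u := by
    intro d hd h u hu
    have hc := h u hu
    have h1 := conj_pow_eq (k := d) (u := u) rfl (hKE d hd _ hc) (orderOf d)
    rw [pow_orderOf_eq_one, one_mul, inv_one, mul_one] at h1
    have h2 : (d * u * d⁻¹ * u⁻¹) ^ orderOf d = 1 := by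
      have := h1.symm
      rwa [mul_eq_right] at this
    obtain ⟨j, hj⟩ := hTp ⟨_, hET hc⟩
    have hj' : (d * u * d⁻¹ * u⁻¹) ^ p ^ j = 1 := congrArg Subtype.val hj
    have hcop : Nat.Coprime (p ^ j) (orderOf d) :=
      Nat.Coprime.pow_left j ((Nat.Prime.coprime_iff_not_dvd hpf.out).2 hd)
    have h3 : d * u * d⁻¹ * u⁻¹ = 1 := by
      have h6 := orderOf_dvd_of_pow_eq_one hj'
      have h7 := orderOf_dvd_of_pow_eq_one h2
      have h8 : orderOf (d * u * d⁻¹ * u⁻¹) ∣ 1 := by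
        rw [← Nat.Coprime.gcd_eq_one hcop]
        exact Nat.dvd_gcd h6 h7
      exact orderOf_eq_one_iff.1 (Nat.dvd_one.1 h8)
    exact mul_inv_eq_one.1 h3
  have main : ∀ x' y' : MulAut ↥V, closure {x', y'} = L →
      (∀ a, x' (x' a * a⁻¹) = x' a * a⁻¹) → (∀ a, y' (y' a * a⁻¹) = y' a * a⁻¹) → x' ≠ 1 → False := by
    intro x' y' hxy hx' hy' hx1
    obtain ⟨t, k, w, v₁, v₂, htL, hkL, hwL, htinv, hkv1, hkv2, hwv1, hwv2, hrel, hne⟩ :=
      exists_weyl_triple hp2 hexp x' y' hx' hy' (by rw [hxy]; exact hirrL) hx1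
    rw [hxy] at htL hkL hwL
    obtain ⟨t₀, ht₀⟩ := hLσ t htL
    obtain ⟨k₀, hk₀⟩ := hLσ k hkL
    obtain ⟨w₀, hw₀⟩ := hLσ w hwL
    have hc2 : Nat.Coprime 2 p := by
      rw [Nat.coprime_comm]
      exact (Nat.Prime.coprime_iff_not_dvd hpf.out).2 (fun h => by
        have h3 := Nat.le_of_dvd (by norm_num) h
        have h4 := hpf.out.two_le
        omega)
    obtain ⟨th, hth, hthp⟩ := exists_p'_lift σ hc2 t₀ (by
      rw [ht₀]
      ext a
      simp [pow_two, htinv])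
    rw [ht₀] at hth
    obtain ⟨_, a₀, ha₀, rfl⟩ := v₁
    obtain ⟨_, b₀, hb₀, rfl⟩ := v₂
    let α : X →* MulAut ↥T := MulAut.conjNormal
    have hα : ∀ (x : X) (u : ↥T), ((α x u : ↥T) : X) = x * u * x⁻¹ := fun x u => rfl
    have hα1 : ∀ d : X, (∀ u ∈ T, d * u * d⁻¹ = u) → α d = 1 := by
      intro d hd
      ext u
      rw [hα]
      exact hd u u.2
    -- the value of `σ` on the class of `u`
    have hval : ∀ (x u u' : X) (hu : u ∈ T) (hu' : u' ∈ T),
        σ x ⟨π u, hmemV u hu⟩ = ⟨π u', hmemV u' hu'⟩ → x * u * x⁻¹ * u'⁻¹ ∈ E := by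
      intro x u u' hu hu' h
      rw [hσu x u hu] at h
      exact hπeq' _ _ (congrArg Subtype.val h)
    obtain ⟨T₀, k', w', a', hk'L, hw'L, hk'k, hw'w, hk'T, hw'T, ha'T, ha'a, hk'q⟩ :=
      exists_small_quadratic hp2 (hTp : IsPGroup p ↥T) (E.subgroupOf T)
      (by
        intro e he u
        apply Subtype.ext
        exact (hTE u u.2 e (mem_subgroupOf.1 he)).symm)
      (by
        intro u v
        rw [mem_subgroupOf, ← hπ1]
        have h1 := congrArg Subtype.val (hab ⟨π u, hmemV u u.2⟩ ⟨π v, hmemV v v.2⟩)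
        simp only [Subgroup.coe_mul] at h1
        simp only [Subgroup.coe_mul, Subgroup.coe_inv, map_mul, map_inv]
        rw [h1]
        group)
      α.range
      (by
        rintro _ ⟨d, rfl⟩ e he
        rw [mem_subgroupOf, hα]
        exact hEn.conj_mem _ (mem_subgroupOf.1 he) d)
      (by
        rintro _ ⟨d, rfl⟩ h
        obtain ⟨n, hn⟩ := exists_pow_not_dvd_orderOf p d
        refine ⟨n, ?_⟩
        rw [← map_pow]
        apply hα1
        apply hp'triv _ hn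
        have hσd : σ d = 1 := by
          rw [← map_one σ]
          apply hσext
          intro u hu
          have := h ⟨u, hu⟩
          rw [mem_subgroupOf, Subgroup.coe_mul, hα, Subgroup.coe_inv] at this
          simpa using this
        intro u hu
        have h1 := hσeq (d ^ p ^ n) 1 (by rw [map_pow, hσd, one_pow, map_one]) u hu
        simpa using h1)
      (α th) ⟨th, rfl⟩
      (by
        intro e he
        apply Subtype.ext
        rw [hα, hKE th hthp e (mem_subgroupOf.1 he), mul_inv_cancel_right])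
      (by
        intro u
        rw [mem_subgroupOf, Subgroup.coe_mul, hα]
        have h1 := hσu th u u.2
        rw [hth, htinv] at h1
        have h2 : (π u)⁻¹ = π (th * u * th⁻¹) := congrArg Subtype.val h1
        rw [← hπ1, map_mul, ← h2, inv_mul_cancel])
      (by
        rw [← map_mul]
        apply hα1
        apply hp'triv
        · intro hdvd
          apply hthp
          rw [← pow_two] at hdvd
          exact hdvd.trans (orderOf_pow_dvd 2)
        · intro u hu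
          have h1 := hσeq (th * th) 1 (by
            rw [map_mul, hth, map_one]
            ext a
            simp [htinv]) u hu
          simpa using h1)
      (α k₀) (α w₀) ⟨k₀, rfl⟩ ⟨w₀, rfl⟩ ⟨a₀, ha₀⟩ ⟨b₀, hb₀⟩
      (by
        rw [mem_subgroupOf, Subgroup.coe_mul, hα, Subgroup.coe_inv]
        exact hval k₀ a₀ a₀ ha₀ ha₀ (by rw [hk₀]; exact hkv1))
      (by
        rw [mem_subgroupOf, Subgroup.coe_mul, hα, Subgroup.coe_inv, Subgroup.coe_mul]
        refine hval k₀ b₀ (a₀ * b₀) hb₀ (T.mul_mem ha₀ hb₀) ?_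
        rw [hk₀, hkv2]
        apply Subtype.ext
        simp)
      (by
        rw [mem_subgroupOf, Subgroup.coe_mul, hα]
        have := hval w₀ a₀ b₀⁻¹ ha₀ (T.inv_mem hb₀) (by
          rw [hw₀, hwv1]
          apply Subtype.ext
          simp)
        simpa using this)
      (by
        rw [mem_subgroupOf, Subgroup.coe_mul, hα, Subgroup.coe_inv]
        exact hval w₀ b₀ a₀ hb₀ ha₀ (by rw [hw₀]; exact hwv2))
    obtain ⟨kh, rfl⟩ := hk'L
    obtain ⟨wh, rfl⟩ := hw'L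
    have hσk : σ kh = k := by
      rw [← hk₀]
      apply hσext
      intro u hu
      have := hk'k ⟨u, hu⟩
      rw [mem_subgroupOf, Subgroup.coe_mul, Subgroup.coe_inv, hα, hα] at this
      exact this
    have hσw : σ wh = w := by
      rw [← hw₀]
      apply hσext
      intro u hu
      have := hw'w ⟨u, hu⟩
      rw [mem_subgroupOf, Subgroup.coe_mul, Subgroup.coe_inv, hα, hα] at this
      exact this
    set T₁ : Subgroup X := T₀.map T.subtype with hT₁
    have hT₁p : IsPGroup p T₁ := hTp.to_le (by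
      rintro _ ⟨u, -, rfl⟩
      exact u.2)
    have hnorm : ∀ z : X, (∀ u ∈ T₀, α z u ∈ T₀) → z ∈ normalizer (T₁ : Set X) := by
      intro z hz
      apply mem_normalizer_of_conj_le
      rintro _ ⟨_, ⟨u, hu, rfl⟩, rfl⟩
      exact ⟨α z u, hz u hu, rfl⟩
    have hkN := hnorm kh hk'T
    have hwN := hnorm wh hw'T
    have hQk : QuadOn T₁ kh := by
      rintro _ ⟨u, hu, rfl⟩
      have := congrArg Subtype.val (hk'q u hu)
      rw [hα, Subgroup.coe_mul, hα, Subgroup.coe_inv] at this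
      exact this
    obtain ⟨D₁, hkD, -, hND, hDp⟩ := hst T₁ hT₁p kh hkN (commutator_eq_bot_of_quadOn hkN hQk)
    have hwkD : wh * kh * wh⁻¹ ∈ D₁ := (mem_normalizer_iff.1 (hND hwN) kh).1 hkD
    have hdD : kh * (wh * kh * wh⁻¹) * kh ∈ D₁ := D₁.mul_mem (D₁.mul_mem hkD hwkD) hkD
    obtain ⟨n, hn⟩ := hDp _ hdD
    have hσd : σ (kh * (wh * kh * wh⁻¹) * kh) = w := by
      simp only [map_mul, map_inv, hσk, hσw]
      exact hrel
    have ha'T₁ : (a' : X) ∈ T₁ := ⟨a', ha'T, rfl⟩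
    have hπa : π (a' : X) = π a₀ := by
      apply hπeq
      have := ha'a
      rwa [mem_subgroupOf, Subgroup.coe_mul, Subgroup.coe_inv] at this
    have hfix : (w ^ p ^ n) ⟨π a₀, hmemV a₀ ha₀⟩ = ⟨π a₀, hmemV a₀ ha₀⟩ := by
      rw [← hσd, ← map_pow]
      have h1 : (⟨π a₀, hmemV a₀ ha₀⟩ : ↥V) = ⟨π (a' : X), hmemV _ a'.2⟩ := Subtype.ext hπa.symm
      rw [h1, hσu _ _ a'.2]
      apply Subtype.ext
      show π _ = π _
      have h2 := mem_centralizer_iff.1 hn _ ha'T₁
      rw [← h2, mul_inv_cancel_right]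
    have hfix4 : (w ^ 4) ⟨π a₀, hmemV a₀ ha₀⟩ = ⟨π a₀, hmemV a₀ ha₀⟩ := by
      have e : w ^ 4 = w * w * w * w := by simp only [pow_succ, pow_zero, one_mul]
      rw [e]
      simp only [MulAut.mul_apply, hwv1, map_inv, hwv2, inv_inv]
    have hcop : Nat.Coprime (p ^ n) 4 := by
      apply Nat.Coprime.pow_left
      have : Nat.Coprime p (2 ^ 2) := Nat.Coprime.pow_right 2 hc2.symm
      simpa using this
    have := fix_of_pow_fix w _ hcop hfix hfix4
    rw [hwv1] at this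
    exact hne this
  rcases hne1 with h | h
  · exact main (σ g) (σ y) rfl (hquad g hg) (hquad y hy) h
  · exact main (σ y) (σ g) (by rw [hL, Set.pair_comm]) (hquad y hy) (hquad g hg) h

/-- **(L)** -/
theorem isNormalizerPStable_quotient' {X : Type u} [Group X] [Finite X] {p : ℕ} [Fact p.Prime] (hp : p ≠ 2)
    (hst : IsNormalizerPStable p X) (R : Subgroup X) [R.Normal] (hRp : IsPGroup p R)
    (hR : ∀ k : X, ¬ p ∣ orderOf k → ∀ r ∈ R, k * r = r * k) : IsNormalizerPStable p (X ⧸ R) := by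
  apply isNormalizerPStable_quotient_of R hRp
  intro Q hQ hRQ g hg hquad
  apply exists_of_pairs Q g hg
  intro t ht w hw
  set y := t * g * t⁻¹ with hy
  have hyN : y ∈ normalizer (Q : Set X) := mul_mem (mul_mem ht hg) (inv_mem ht)
  set K := Q ⊔ closure {g, y} with hK
  have hQK : Q ≤ K := le_sup_left
  have hcK : closure {g, y} ≤ K := le_sup_right
  have hKN : K ≤ normalizer (Q : Set X) := by
    rw [hK, sup_le_iff, closure_le]
    refine ⟨le_normalizer, ?_⟩
    rintro z (rfl | rfl)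
    · exact hg
    · exact hyN
  have hgK : g ∈ K := hcK (subset_closure (by simp))
  have hyK : y ∈ K := hcK (subset_closure (by simp))
  have hn : (Q.subgroupOf K).Normal := (normal_subgroupOf_iff_le_normalizer hQK).2 hKN
  have hstK : NPS p ↥K := NPS_of_injective K.subtype K.subtype_injective (isNormalizerPStable_iff.1 hst)
  have htop : Q.subgroupOf K ⊔ closure {(⟨g, hgK⟩ : ↥K), ⟨y, hyK⟩} = ⊤ := by
    apply Subgroup.map_injective K.subtype_injective
    rw [Subgroup.map_sup, MonoidHom.map_closure, Set.image_pair, ← MonoidHom.range_eq_map, Subgroup.range_subtype,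
      Subgroup.map_subgroupOf_eq_of_le hQK]
    rfl
  have hq' : ∀ z : ↥K, QuadMod Q R (z : X) → QuadMod (Q.subgroupOf K) (R.subgroupOf K) z := by
    intro z hz x hx
    rw [mem_subgroupOf]
    exact hz x (mem_subgroupOf.1 hx)
  have hcore := coreX' hp hstK (Q.subgroupOf K) (R.subgroupOf K) (hQ.comap_of_injective _ K.subtype_injective)
    (by
      intro k hk r hr
      apply Subtype.ext
      exact hR k (by rwa [Subgroup.orderOf_coe]) r (mem_subgroupOf.1 hr))
    ⟨g, hgK⟩ ⟨y, hyK⟩ htop (hq' ⟨g, hgK⟩ hquad) (hq' ⟨y, hyK⟩ (hquad.conj ht))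
  obtain ⟨a, ha⟩ := exists_pow_not_dvd_orderOf p (⟨w, hcK hw⟩ : ↥K)
  refine ⟨a, ?_⟩
  rw [mem_centralizer_iff]
  intro q hq
  have := hcore _ ha ⟨q, hQK hq⟩ (mem_subgroupOf.2 hq)
  exact (congrArg Subtype.val this).symm


/-- **S1934 for all odd primes.** -/
theorem controls_zj {G : Type u} [Group G] [Finite G] {p : ℕ} [Fact p.Prime] (hp : p ≠ 2)
    (hst : IsNormalizerPStable p G) (P : Sylow p G) (A : Set G) (hA : A ⊆ (P : Subgroup G)) :
    ControlsStrongFusionOf (Subgroup.normalizer (centerThompsonAOf (P : Subgroup G) : Set G)) (P : Subgroup G) A :=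
  controls_of_stable hp
    (fun _ _ _ hX R _ hRp hR => isNormalizerPStable_quotient' hp hX R hRp hR)
    (fun _ _ _ hX D _ hD => Cfsg.Agent.Lib.Helper72.isNormalizerPStable_quotient_p' hX D hD)
    hst P A hA

end Cfsg.Agent.Lib.Helper76.FS
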