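import Cfsg.Agent.Lib.Helper76.FS.Defs
import Cfsg.Agent.Lib.Helper76.PSQ.Top
import Cfsg.Agent.Lib.Helper58.FSE1
import Cfsg.Agent.Lib.Helper58.FSE2
import Cfsg.Agent.Lib.Helper58.FSE3
import Cfsg.Agent.Lib.Helper81.FSE4
import Cfsg.Agent.Lib.Helper81.FSE5a

/-!
# The iterated `Z(J)`-functor is normal in constrained `p`-stable groups, and controls strong fusion
-/

set_option autoImplicit false

universe u

namespace Cfsg.Agent.Lib.Helper76.FS

open scoped Pointwise
open Cfsg Cfsg.Agent.Lib.Lead Cfsg.Agent.Lib.Helper9 Cfsg.Agent.Lib.Helper34 Cfsg.Agent.Lib.Helper33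
open Cfsg.Agent.Lib.Helper58.FS Cfsg.Agent.Lib.Helper81.FS Cfsg.Agent.Lib.Helper76.PSQ

theorem inducedFunctor_conj' (W : ∀ (Q : Type u) [Group Q], Subgroup Q)
    (hW : ∀ (Q R : Type u) [Group Q] [Group R] (φ : Q ≃* R), (W Q).map φ.toMonoidHom = W R)
    {X : Type u} [Group X] (T : Subgroup X) (g : X) :
    inducedFunctor W (MulAut.conj g • T) = MulAut.conj g • inducedFunctor W T := by
  have key : ∀ (T' : Subgroup X) (e : ↥T ≃* ↥T'), (∀ t, (e t : X) = g * t * g⁻¹) →
      inducedFunctor W T' = MulAut.conj g • inducedFunctor W T := by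
    intro T' e he
    unfold inducedFunctor
    rw [← hW _ _ e, Subgroup.map_map]
    ext x
    rw [Subgroup.mem_pointwise_smul_iff_inv_smul_mem]
    constructor
    · rintro ⟨t, ht, rfl⟩
      refine ⟨t, ht, ?_⟩
      show (t : X) = (MulAut.conj g)⁻¹ (e t : X)
      rw [he]
      simp
      group
    · rintro ⟨t, ht, htx⟩
      refine ⟨t, ht, ?_⟩
      show (e t : X) = x
      rw [he]
      have : (t : X) = (MulAut.conj g)⁻¹ x := htx
      rw [this]
      simp
      group
  exact key _ ((MulAut.conj g).subgroupMap T) (fun t => rfl)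

theorem inducedFunctor_dz_succ' (n : ℕ) {X : Type u} [Group X] (T Z : Subgroup X) (hZ : centerThompsonAOf T = Z) :
    inducedFunctor (dz (n + 1)) T =
      ((inducedFunctor (dz n) ((T.subgroupOf (Subgroup.centralizer (Z : Set X))).map
        (QuotientGroup.mk' (Z.subgroupOf (Subgroup.centralizer (Z : Set X)))))).comap
        (QuotientGroup.mk' (Z.subgroupOf (Subgroup.centralizer (Z : Set X))))).map
        (Subgroup.centralizer (Z : Set X)).subtype := by
  subst hZ
  exact inducedFunctor_dz_succ n T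

/-- E5 -/
theorem dz_normal {p : ℕ} [Fact p.Prime] (hp2 : p ≠ 2)
    (hA : ∀ (X : Type u) [Group X] [Finite X], IsNormalizerPStable p X → ∀ (R : Subgroup X) [R.Normal],
      IsPGroup p R → (∀ k : X, ¬ p ∣ orderOf k → ∀ r ∈ R, k * r = r * k) → IsNormalizerPStable p (X ⧸ R))
    (n : ℕ) : ∀ (X : Type u) [Group X] [Finite X], IsNormalizerPStable p X →
      Subgroup.centralizer ((pCore p X : Subgroup X) : Set X) ≤ pCore p X →
      ∀ T : Sylow p X, (inducedFunctor (dz n) (T : Subgroup X)).Normal := by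
  induction n with
  | zero =>
    intro X _ _ _ _ T
    show ((dz 0 ↥(T : Subgroup X)).map _).Normal
    rw [dz_zero, Subgroup.map_bot]
    infer_instance
  | succ n ih =>
    intro X _ _ hst hC T
    set Z := centerThompsonAOf (T : Subgroup X) with hZ
    have hZn : Z.Normal := (Cfsg.Agent.S3079.result hp2 T (T : Subgroup X) ⟨le_rfl, fun _ _ _ h => h⟩ hst hC).1
    have hZp : IsPGroup p Z := T.2.to_le (cta_le (T : Subgroup X))
    set Y := Subgroup.centralizer (Z : Set X) with hY
    have hstY : IsNormalizerPStable p ↥Y := isNormalizerPStable_of_injective Y.subtype Y.subtype_injective hst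
    have hstQ : IsNormalizerPStable p (↥Y ⧸ Z.subgroupOf Y) := by
      refine hA ↥Y hstY (Z.subgroupOf Y) (hZp.comap_of_injective _ Y.subtype_injective) ?_
      intro k _ r hr
      apply Subtype.ext
      exact (Subgroup.mem_centralizer_iff.1 k.2 r (Subgroup.mem_subgroupOf.1 hr)).symm
    have hCQ := constrained_centralizer_quotient hC Z hZp
    have hZT : ∀ T' : Sylow p X, centerThompsonAOf (T' : Subgroup X) = Z := by
      intro T'
      obtain ⟨g, rfl⟩ := MulAction.exists_smul_eq X T T'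
      rw [Sylow.coe_subgroup_smul, ← inducedFunctor_zjA, inducedFunctor_conj' zjA (fun _ _ _ _ φ => zjA_map φ),
        inducedFunctor_zjA]
      exact Subgroup.Normal.conj_smul_eq_self g Z
    set π := QuotientGroup.mk' (Z.subgroupOf Y) with hπ
    have hD : ∀ T' : Sylow p X, inducedFunctor (dz n) (((T' : Subgroup X).subgroupOf Y).map π) =
        inducedFunctor (dz n) (((T : Subgroup X).subgroupOf Y).map π) := by
      intro T'
      obtain ⟨S₁, hS₁⟩ := exists_sylow_centralizer_quotient Z hZp T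
      obtain ⟨S₂, hS₂⟩ := exists_sylow_centralizer_quotient Z hZp T'
      rw [← hS₁, ← hS₂]
      obtain ⟨y, rfl⟩ := MulAction.exists_smul_eq (↥Y ⧸ Z.subgroupOf Y) S₁ S₂
      have hn := ih _ hstQ hCQ S₁
      rw [Sylow.coe_subgroup_smul, inducedFunctor_conj' (dz n) (fun _ _ _ _ φ => dz_map n φ)]
      exact Subgroup.Normal.conj_smul_eq_self y _
    have hall : ∀ T' : Sylow p X, inducedFunctor (dz (n + 1)) (T' : Subgroup X) =
        inducedFunctor (dz (n + 1)) (T : Subgroup X) := by
      intro T'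
      rw [inducedFunctor_dz_succ' n _ Z (hZT T'), inducedFunctor_dz_succ' n _ Z (hZT T), hD T']
    rw [← Subgroup.normalizer_eq_top_iff, eq_top_iff]
    intro g _
    rw [mem_normalizer_iff_smul, ← inducedFunctor_conj' (dz (n + 1)) (fun _ _ _ _ φ => dz_map (n + 1) φ),
      ← Sylow.coe_subgroup_smul]
    exact hall _

theorem isCharPFunctor_dzF {p : ℕ} [Fact p.Prime] : IsCharPFunctor.{u} p dzF := by
  refine ⟨?_, ?_⟩
  · intro Q _ _ hQ hnt h
    obtain ⟨m, hm⟩ : ∃ m, Nat.card Q = m + 1 := ⟨Nat.card Q - 1, by have := Nat.card_pos (α := Q); omega⟩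
    have h1 : zjA Q ≤ dzF Q := by
      unfold dzF
      rw [hm]
      exact zjA_le_dz_succ m Q
    rw [h, le_bot_iff] at h1
    exact zjA_ne_bot Q hQ h1
  · intro Q R _ _ _ _ φ
    unfold dzF
    rw [dz_map, Nat.card_congr φ.toEquiv]

theorem inf_centralizer_dzF_le {p : ℕ} [Fact p.Prime] {X : Type u} [Group X] (T : Subgroup X) [Finite T]
    (hT : IsPGroup p T) : T ⊓ Subgroup.centralizer (inducedFunctor dzF T : Set X) ≤ inducedFunctor dzF T := by
  intro x hx
  obtain ⟨hxT, hxc⟩ := Subgroup.mem_inf.1 hx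
  have h1 : (⟨x, hxT⟩ : ↥T) ∈ Subgroup.centralizer (dzF ↥T : Set ↥T) := by
    rw [Subgroup.mem_centralizer_iff]
    intro y hy
    apply Subtype.ext
    exact Subgroup.mem_centralizer_iff.1 hxc y ⟨y, hy, rfl⟩
  have h2 := centralizer_dz_le (Nat.card ↥T) ↥T hT (Nat.lt_two_pow_self).le h1
  exact ⟨⟨x, hxT⟩, h2, rfl⟩

/-- The section argument for the iterated functor. -/
theorem CS_dzF {p : ℕ} [Fact p.Prime] (hp2 : p ≠ 2)
    (hA : ∀ (X : Type u) [Group X] [Finite X], IsNormalizerPStable p X → ∀ (R : Subgroup X) [R.Normal],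
      IsPGroup p R → (∀ k : X, ¬ p ∣ orderOf k → ∀ r ∈ R, k * r = r * k) → IsNormalizerPStable p (X ⧸ R))
    (hB : ∀ (X : Type u) [Group X] [Finite X], IsNormalizerPStable p X → ∀ (D : Subgroup X) [D.Normal],
      (Nat.card D).Coprime p → IsNormalizerPStable p (X ⧸ D)) :
    ∀ (n : ℕ) (X : Type u) [Group X] [Finite X], Nat.card X = n → IsNormalizerPStable p X →
      CS p ({dzF} : Set (∀ (Q : Type u) [Group Q], Subgroup Q)) X := by
  have h𝓦 : ∀ W' ∈ ({dzF} : Set (∀ (Q : Type u) [Group Q], Subgroup Q)), IsCharPFunctor.{u} p W' := by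
    intro W' hW'
    rw [Set.mem_singleton_iff] at hW'
    subst hW'
    exact isCharPFunctor_dzF
  intro n
  induction n using Nat.strong_induction_on with
  | _ n ih =>
    intro X _ _ hn hst
    refine CS_step' h𝓦 ?_ ?_ ?_ ?_
    · intro H hH
      exact ih _ (hn ▸ card_subgroup_lt hH) ↥H rfl
        (isNormalizerPStable_of_injective H.subtype H.subtype_injective hst)
    · intro hnorm hR0 hS
      refine ih _ (hn ▸ Cfsg.Agent.Lib.Helper33.card_quotient_lt hR0) _ rfl
        (hA X hst (pCore p X) Cfsg.Agent.Lib.Helper33.pCore_isPGroup ?_)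
      intro k hk r hr
      obtain ⟨S⟩ : Nonempty (Sylow p X) := Sylow.nonempty
      have h1 := mem_centralizer_of_sup_eq_top _ S (hS S) k hk
      exact (Subgroup.mem_centralizer_iff.1 h1 r hr).symm
    · intro N _ hN hNc
      exact ih _ (hn ▸ Cfsg.Agent.Lib.Helper33.card_quotient_lt hN) _ rfl (hB X hst N hNc)
    · intro hC
      obtain ⟨T⟩ : Nonempty (Sylow p X) := Sylow.nonempty
      rw [CS_iff h𝓦 T]
      intro A h _ hA' hhA
      have hN : (inducedFunctor dzF (T : Subgroup X)).Normal :=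
        dz_normal hp2 hA (Nat.card ↥(T : Subgroup X)) X hst hC T
      refine ⟨h, StepChain.single ⟨hA', hhA, _, ⟨dzF, rfl, rfl⟩, ⟨Subgroup.mem_top _, ?_⟩⟩, fun _ _ => rfl⟩
      show h ∈ Subgroup.normalizer ((inducedFunctor dzF (T : Subgroup X) : Subgroup X) : Set X)
      rw [Subgroup.normalizer_eq_top]
      exact Subgroup.mem_top _

/-- final form -/
theorem controls_dzF {p : ℕ} [Fact p.Prime] (hp2 : p ≠ 2)
    (hA : ∀ (X : Type u) [Group X] [Finite X], IsNormalizerPStable p X → ∀ (R : Subgroup X) [R.Normal],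
      IsPGroup p R → (∀ k : X, ¬ p ∣ orderOf k → ∀ r ∈ R, k * r = r * k) → IsNormalizerPStable p (X ⧸ R))
    (hB : ∀ (X : Type u) [Group X] [Finite X], IsNormalizerPStable p X → ∀ (D : Subgroup X) [D.Normal],
      (Nat.card D).Coprime p → IsNormalizerPStable p (X ⧸ D))
    {G : Type u} [Group G] [Finite G] (hst : IsNormalizerPStable p G) (P : Sylow p G) (A : Set G)
    (hAP : A ⊆ (P : Subgroup G)) :
    ControlsStrongFusionOf (Subgroup.normalizer (inducedFunctor dzF (P : Subgroup G) : Set G)) (P : Subgroup G) A := by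
  have h𝓦 : ∀ W' ∈ ({dzF} : Set (∀ (Q : Type u) [Group Q], Subgroup Q)), IsCharPFunctor.{u} p W' := by
    intro W' hW'
    rw [Set.mem_singleton_iff] at hW'
    subst hW'
    exact isCharPFunctor_dzF
  have h1 := (CS_iff h𝓦 P).1 (CS_dzF hp2 hA hB _ G rfl hst)
  refine ⟨hAP, fun g hgA => ?_⟩
  obtain ⟨x, hx, hx'⟩ := h1 A g (Subgroup.mem_top _) hAP hgA
  have e : ind G {dzF} = {inducedFunctor dzF} := Set.image_singleton
  rw [e] at hx
  exact ⟨x, (mem_normalizer_of_stepChain hx).2, fun a ha => (hx' a ha).symm⟩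

end Cfsg.Agent.Lib.Helper76.FS
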